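import Groth.Agent.HilbSnap.Model
import Groth.Agent.LimMod.Descend

/-!
Invertible modules on a cofiltered limit with affine transition maps come from a stage.
-/

noncomputable section

set_option autoImplicit false
set_option linter.style.haveILetI false
set_option linter.unusedSectionVars false
set_option backward.isDefEq.respectTransparency false
set_option backward.isDefEq.respectTransparency.types false
set_option maxHeartbeats 1000000
set_option synthInstance.maxHeartbeats 400000

universe u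

open CategoryTheory CategoryTheory.Limits AlgebraicGeometry TopologicalSpace

namespace Groth.Agent.PicLim

open Groth.Agent

theorem isFP_of_isInvertible {X : Scheme.{u}} {M : X.Modules} (h : PicF.IsInvertible M) : CohB1.IsFP M :=
  QCoh.isFP_of_isFinLocFree (H23.PullPush.isFinLocFree_of_isInvertible h)

variable {I : Type u} [SmallCategory I] [IsCofiltered I] (D : I ⥤ Scheme.{u})
  [∀ {i j : I} (f : i ⟶ j), IsAffineHom (D.map f)] [∀ i, CompactSpace (D.obj i)] [∀ i, QuasiSeparatedSpace (D.obj i)]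
  (c : Cone D) (hc : IsLimit c)

include hc in
/-- invertible modules descend to a stage -/
theorem exists_invertible_descend (i : I) (L : c.pt.Modules) (hL : PicF.IsInvertible L) :
    ∃ (j : I) (_ : j ⟶ i) (Lj : (D.obj j).Modules), PicF.IsInvertible Lj ∧
      Nonempty ((Scheme.Modules.pullback (c.π.app j)).obj Lj ≅ L) := by
  haveI : ∀ (a b : I) (t : a ⟶ b), IsAffineHom (D.map t) := fun a b t => inferInstance
  obtain ⟨Li, hLi, ⟨eL⟩⟩ := H23.PicInv.exists_inverse hL
  obtain ⟨b, φb, Lb, hLb, ⟨θL⟩⟩ := LimMod.exists_module_descend D c hc (i := i) (F := L) (isFP_of_isInvertible hL)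
  obtain ⟨m, φm, Em, hEm, ⟨θE⟩⟩ := LimMod.exists_module_descend D c hc (i := b) (F := Li) (isFP_of_isInvertible hLi)
  let Lm := (Scheme.Modules.pullback (D.map φm)).obj Lb
  have hLm : CohB1.IsFP Lm := ModStLib.isFP_pullback _ hLb
  let θm : (Scheme.Modules.pullback (c.π.app m)).obj Lm ≅ L :=
    (Scheme.Modules.pullbackComp _ _).app Lb ≪≫ (Scheme.Modules.pullbackCongr (c.w φm)).app Lb ≪≫ θL
  obtain ⟨pt⟩ := H23.PicMul.pull (c.π.app m) Lm Em
  obtain ⟨po⟩ := PicClLib.nonempty_pullback_structureModule (c.π.app m)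
  obtain ⟨n, φn, ⟨eN⟩⟩ := LimMod.exists_iso_stage D c hc (HilbSnap.isFP_tensor hLm hEm)
    (isFP_of_isInvertible (InvX.isInvertible_structureModule (X := D.obj m)))
    (pt ≪≫ PicGrp.tensorModIso θm θE ≪≫ eL ≪≫ po.symm)
  obtain ⟨pn⟩ := H23.PicMul.pull (D.map φn) Lm Em
  obtain ⟨pn₀⟩ := PicClLib.nonempty_pullback_structureModule (D.map φn)
  exact ⟨n, φn ≫ φm ≫ φb, (Scheme.Modules.pullback (D.map φn)).obj Lm,
    HilbSnap.isInvertible_of_tensor_inverse (ModStLib.isFP_pullback _ hLm) (pn.symm ≪≫ eN ≪≫ pn₀),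
    ⟨(Scheme.Modules.pullbackComp _ _).app Lm ≪≫ (Scheme.Modules.pullbackCongr (c.w φn)).app Lm ≪≫ θm⟩⟩

end Groth.Agent.PicLim

end
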